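import Groth.Prelude.Def_PicF2
import Groth.Agent.RigDesc25.Classes
import Groth.Agent.Var76.FibBC
import Groth.Agent.ASB64.GalSplit
import Groth.Agent.ASB64.InsepSplit
import Groth.Agent.Curves2.Glue.Descend
import Groth.Agent.ParaF26.Open
import Groth.Agent.Props58.PullTensor

/-! Galois descent of invertible modules in the presence of a rational point. -/

set_option autoImplicit false
set_option maxSynthPendingDepth 6
set_option backward.isDefEq.respectTransparency false
set_option backward.isDefEq.respectTransparency.types false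
universe u

open CategoryTheory CategoryTheory.Limits AlgebraicGeometry TopologicalSpace TensorProduct

noncomputable section

namespace Groth.Agent.PicGal25

open RigDesc25 Var76.LineBundle

/-- Rigidity data from the bijectivity of global functions on all flat base changes. -/
theorem rig_of_pullback {X X' S U : Scheme.{u}} (f : X ⟶ S) (x : S ⟶ X) (hx : x ≫ f = 𝟙 S)
    (ha : ∀ {Z W : Scheme.{u}} {a : Z ⟶ X} {q : Z ⟶ W} {g : W ⟶ S}, IsPullback a q f g → Flat g →
      Function.Bijective q.appTop)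
    {p : X' ⟶ X} {q : X' ⟶ U} {u : U ⟶ S} [Flat u] (hA : IsPullback p q f u) (σ' : U ⟶ X') (hσ : σ' ≫ p = u ≫ x)
    (hσq : σ' ≫ q = 𝟙 U) :
    Function.Bijective σ'.appTop ∧ Function.Bijective (sec₂ p u x σ' hσ).appTop ∧
      Function.Bijective (sec₃ p u x σ' hσ).appTop := by
  refine ⟨bijective_appTop_section (ha hA ‹_›) hσq, ?_⟩
  let Q : pullback p p ⟶ pullback u u := pullback.map p p u u q q f hA.w hA.w
  have hQ : IsPullback (pullback.fst p p) Q q (pullback.fst u u) :=
    isPullback_prod f hA hA Q (pullback.lift_fst _ _ _) (pullback.lift_snd _ _ _)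
  have hQ' : IsPullback (pullback.snd p p) Q q (pullback.snd u u) := by
    let θ := pullbackSymmetry p p
    let η := pullbackSymmetry u u
    refine hQ.of_iso θ (Iso.refl _) η (Iso.refl _) ?_ ?_ ?_ ?_
    · simp [θ]
    · refine pullback.hom_ext ?_ ?_ <;> simp [θ, η, Q]
    · simp
    · simp [η]
  let s₂ := sec₂ p u x σ' hσ
  have hs₂ : s₂ ≫ Q = 𝟙 _ := by
    refine pullback.hom_ext ?_ ?_
    · simp [s₂, sec₂, Q, hσq]
    · simp [s₂, sec₂, Q, hσq]
  have hf₂ : Flat (pullback.fst u u ≫ u) := inferInstance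
  refine ⟨bijective_appTop_section (ha (hQ.paste_horiz hA) hf₂) hs₂, ?_⟩
  let Q₃ : pullback (pullback.snd p p) (pullback.fst p p) ⟶ pullback (pullback.snd u u) (pullback.fst u u) :=
    pullback.map _ _ _ _ Q Q q hQ'.w hQ.w
  have hQ₃ : IsPullback (pullback.fst (pullback.snd p p) (pullback.fst p p)) Q₃ Q
      (pullback.fst (pullback.snd u u) (pullback.fst u u)) :=
    isPullback_prod q hQ' hQ Q₃ (pullback.lift_fst _ _ _) (pullback.lift_snd _ _ _)
  have hf₃ : Flat (pullback.fst (pullback.snd u u) (pullback.fst u u) ≫ pullback.fst u u ≫ u) := inferInstance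
  refine bijective_appTop_section (ha (hQ₃.paste_horiz (hQ.paste_horiz hA)) hf₃) ?_
  refine pullback.hom_ext ?_ ?_
  · show (sec₃ _ _ _ _ _ ≫ Q₃) ≫ pullback.fst _ _ = 𝟙 _ ≫ pullback.fst _ _
    simp only [sec₃, Q₃, Category.assoc, pullback.lift_fst, pullback.lift_fst_assoc, Category.id_comp]
    exact (congrArg (pullback.fst _ _ ≫ ·) hs₂).trans (Category.comp_id _)
  · show (sec₃ _ _ _ _ _ ≫ Q₃) ≫ pullback.snd _ _ = 𝟙 _ ≫ pullback.snd _ _
    simp only [sec₃, Q₃, Category.assoc, pullback.lift_snd, pullback.lift_snd_assoc, Category.id_comp]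
    exact (congrArg (pullback.snd _ _ ≫ ·) hs₂).trans (Category.comp_id _)

/-- Invertible modules over a field are trivial. -/
theorem nonempty_iso_unit_spec {K : Type u} [Field K] (L : (Spec (CommRingCat.of K)).Modules)
    (hL : PicF.IsInvertible L) : Nonempty (L ≅ Coh.structureModule (Spec (CommRingCat.of K))) := by
  obtain ⟨V, hV, -, ε, hε⟩ := Mero90.exists_affine_frame hL (IsLocalRing.closedPoint K) ⊤ trivial
  exact ParaF26.nonempty_iso_unit (hε.res (show (⊤ : (Spec (CommRingCat.of K)).Opens) ≤ V.1 from fun y _ => by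
    rw [Subsingleton.elim y (IsLocalRing.closedPoint K)]; exact hV))

/-- A proper base change along an affine surjection gives a quasi-compact cover. -/
theorem qcCover_of_affine {X' X : Scheme.{u}} (p : X' ⟶ X) [IsAffineHom p] [Surjective p] :
    QuasiCompactCover (⟨PUnit.{u + 1}, fun _ => X', fun _ => p⟩ : PreZeroHypercover.{u} X) where
  isCompactOpenCovered_of_isAffineOpen {U} hU := by
    refine IsCompactOpenCovered.iff_of_unique.2 ⟨p ⁻¹ᵁ U, (hU.preimage p).isCompact, ?_⟩
    exact Set.image_preimage_eq _ p.surjective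

section Field

variable {k : Type u} [Field k] {X : Scheme.{u}} (f : X ⟶ Spec (CommRingCat.of k))
  [CompactSpace X] [QuasiSeparatedSpace X]

/-- Global functions commute with flat base change. -/
theorem bijective_appTop (hH0 : IsIso f.appTop) {Z W : Scheme.{u}} {a : Z ⟶ X} {q : Z ⟶ W}
    {g : W ⟶ Spec (CommRingCat.of k)} (h : IsPullback a q f g) (hg : Flat g) :
    Function.Bijective q.appTop := by
  haveI : QuasiCompact f := (quasiCompact_iff_compactSpace f).2 inferInstance
  haveI : QuasiSeparated f := (quasiSeparated_iff_quasiSeparatedSpace f).2 inferInstance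
  have hf : ∀ V : (Spec (CommRingCat.of k)).Opens, IsIso (f.app V) := fun V => by
    rcases eq_or_ne V ⊥ with rfl | hne
    · haveI : Subsingleton Γ(Spec (CommRingCat.of k), ⊥) :=
        CommRingCat.subsingleton_of_isTerminal ((Spec (CommRingCat.of k)).sheaf.isTerminalOfEqEmpty rfl)
      haveI : Subsingleton Γ(X, f ⁻¹ᵁ ⊥) :=
        CommRingCat.subsingleton_of_isTerminal (X.sheaf.isTerminalOfEqEmpty (by ext; simp))
      exact (ConcreteCategory.isIso_iff_bijective _).2 ⟨fun x y _ => Subsingleton.elim x y, fun y => ⟨0, Subsingleton.elim _ _⟩⟩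
    · obtain rfl : V = ⊤ := by
        obtain ⟨z, hz⟩ := (TopologicalSpace.Opens.ne_bot_iff_nonempty V).1 hne
        exact top_le_iff.1 fun y _ => Subsingleton.elim z y ▸ hz
      exact hH0
  haveI := Var76.FibBC.isIso_app_baseChange f h hf ⊤
  exact ConcreteCategory.bijective_of_isIso q.appTop

variable {N : Type u} [Field N] [Algebra k N]

/-- The base change map of a finite field extension is an fppf covering. -/
theorem pic_descends_finite (hH0 : IsIso f.appTop) (x : Spec (CommRingCat.of k) ⟶ X) (hx : x ≫ f = 𝟙 _)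
    [FiniteDimensional k N] [IsGalois k N]
    (L : (pullback f (Spec.map (CommRingCat.ofHom (algebraMap k N)))).Modules) (hL : PicF.IsInvertible L)
    (hfix : ∀ σ : N ≃ₐ[k] N, Nonempty ((Scheme.Modules.pullback (PicF2.twistAut f σ)).obj L ≅ L)) :
    ∃ M : X.Modules, PicF.IsInvertible M ∧
      Nonempty ((Scheme.Modules.pullback (pullback.fst f (Spec.map (CommRingCat.ofHom (algebraMap k N))))).obj M ≅ L) := by
  classical
  let a := Spec.map (CommRingCat.ofHom (algebraMap k N))
  let p := pullback.fst f a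
  let sK := pullback.snd f a
  let R := N ⊗[k] N
  let iL : Spec (CommRingCat.of R) ⟶ Spec (CommRingCat.of N) :=
    Spec.map (CommRingCat.ofHom (Algebra.TensorProduct.includeLeftRingHom : N →+* R))
  let iR : Spec (CommRingCat.of R) ⟶ Spec (CommRingCat.of N) :=
    Spec.map (CommRingCat.ofHom ((Algebra.TensorProduct.includeRight : N →ₐ[k] R).toRingHom))
  have hR : IsPullback iR iL a a := ASB64.isPullback_includeLeft_Right k N
  have hsq : IsPullback p sK f a := IsPullback.of_hasPullback _ _
  have hfs : pullback.fst p p ≫ sK ≫ a = pullback.snd p p ≫ sK ≫ a := by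
    rw [← hsq.w, pullback.condition_assoc]
  let w : pullback p p ⟶ Spec (CommRingCat.of R) :=
    hR.lift (pullback.snd p p ≫ sK) (pullback.fst p p ≫ sK) (by rw [Category.assoc, Category.assoc, hfs])
  have hw : IsPullback (pullback.fst p p) w sK iL := by
    have h1 := (IsPullback.of_hasPullback p p).paste_vert hsq
    rw [hsq.w, ← show w ≫ iR = pullback.snd p p ≫ sK from hR.lift_fst _ _ _] at h1
    exact IsPullback.of_bot h1 (hR.lift_snd _ _ _).symm hR.flip
  let τ : (N ≃ₐ[k] N) → (R →ₐ[k] N) := fun σ =>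
    Algebra.TensorProduct.lift (AlgHom.id k N) σ.toAlgHom fun _ _ => Commute.all _ _
  let T : R →+* ((N ≃ₐ[k] N) → N) := Pi.ringHom fun σ => (τ σ).toRingHom
  have hT : Function.Bijective T := ASB64.galSplit_bijective (M := N) (fun a m => (Algebra.smul_def a m).symm ▸ rfl)
    T.toAddMonoidHom fun m c σ => by
      show (τ σ) (m ⊗ₜ c) = σ c * m
      rw [Algebra.TensorProduct.lift_tmul, mul_comm]
      rfl
  let θ : CommRingCat.of R ≅ CommRingCat.of ((N ≃ₐ[k] N) → N) := (RingEquiv.ofBijective T hT).toCommRingCatIso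
  let j : (N ≃ₐ[k] N) → (Spec (CommRingCat.of N) ⟶ Spec (CommRingCat.of R)) := fun σ =>
    Spec.map (CommRingCat.ofHom (τ σ).toRingHom)
  let e : (∐ fun _ : N ≃ₐ[k] N => Spec (CommRingCat.of N)) ⟶ Spec (CommRingCat.of R) :=
    sigmaSpec (fun _ : N ≃ₐ[k] N => CommRingCat.of N) ≫ Spec.map θ.hom
  have hj : ∀ σ, j σ = Sigma.ι (fun _ : N ≃ₐ[k] N => Spec (CommRingCat.of N)) σ ≫ e := fun σ => by
    rw [← Category.assoc, ι_sigmaSpec, ← Spec.map_comp]
    rfl
  haveI : IsIso e := inferInstanceAs (IsIso (sigmaSpec _ ≫ _))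
  haveI hjo : ∀ σ, IsOpenImmersion (j σ) := fun σ => by rw [hj]; infer_instance
  have hcov : ∀ z : Spec (CommRingCat.of R), ∃ σ, z ∈ (j σ).opensRange := fun z => by
    obtain ⟨σ, y, hy⟩ := (sigmaOpenCover (fun _ : N ≃ₐ[k] N => Spec (CommRingCat.of N))).exists_eq (inv e z)
    refine ⟨σ, y, ?_⟩
    rw [hj, Scheme.Hom.comp_apply]
    exact (congrArg e hy).trans (by rw [← Scheme.Hom.comp_apply, IsIso.inv_hom_id]; rfl)
  have hdis : ∀ σ σ', σ ≠ σ' → Disjoint (j σ).opensRange (j σ').opensRange := fun σ σ' h => by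
    rw [disjoint_iff_inf_le]
    rintro z ⟨⟨y, hy⟩, ⟨y', hy'⟩⟩
    rw [hj, Scheme.Hom.comp_apply] at hy hy'
    have e1 := (e.homeomorph.injective (hy.trans hy'.symm))
    exact (disjoint_iff_inf_le.1 (disjoint_opensRange_sigmaι (fun _ : N ≃ₐ[k] N => Spec (CommRingCat.of N)) σ σ' h))
      ⟨⟨y, rfl⟩, ⟨y', e1.symm⟩⟩
  have haw : ∀ σ : N ≃ₐ[k] N, PicF2.twistAut f σ ≫ p = p := fun σ =>
    (pullback.lift_fst _ _ _).trans (Category.comp_id _)
  let g : (N ≃ₐ[k] N) → (pullback f a ⟶ pullback p p) := fun σ =>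
    pullback.lift (𝟙 _) (PicF2.twistAut f σ) (by rw [Category.id_comp, haw])
  have hgw : ∀ σ, g σ ≫ w = sK ≫ j σ := fun σ => by
    refine hR.hom_ext ?_ ?_
    · rw [Category.assoc, Category.assoc, show w ≫ iR = _ from hR.lift_fst _ _ _,
        show g σ ≫ pullback.snd p p ≫ sK = PicF2.twistAut f σ ≫ sK from pullback.lift_snd_assoc _ _ _ _,
        ← Spec.map_comp]
      refine (pullback.lift_snd _ _ _).trans (congrArg (sK ≫ ·) (congrArg Spec.map ?_))
      ext c
      exact ((Algebra.TensorProduct.lift_tmul (AlgHom.id k N) σ.toAlgHom (fun _ _ => Commute.all _ _) (1 : N) (show N from c)).trans (one_mul _)).symm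
    · rw [Category.assoc, Category.assoc, show w ≫ iL = _ from hR.lift_snd _ _ _,
        show g σ ≫ pullback.fst p p ≫ sK = 𝟙 _ ≫ sK from pullback.lift_fst_assoc _ _ _ _,
        ← Spec.map_comp]
      rw [Category.id_comp]
      refine (Category.comp_id sK).symm.trans (congrArg (sK ≫ ·) ((Spec.map_id _).symm.trans (congrArg Spec.map ?_)))
      ext c
      exact ((Algebra.TensorProduct.lift_tmul (AlgHom.id k N) σ.toAlgHom (fun _ _ => Commute.all _ _) (show N from c) (1 : N)).trans (by rw [map_one, mul_one]; rfl)).symm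
  have hg : ∀ σ, IsPullback (g σ) sK w (j σ) := fun σ => by
    refine IsPullback.of_right ?_ (hgw σ) hw
    rw [show g σ ≫ pullback.fst p p = 𝟙 _ from pullback.lift_fst _ _ _,
      show j σ ≫ iL = 𝟙 _ by
        rw [← Spec.map_comp, ← Spec.map_id]
        congr 1
        ext c
        exact (Algebra.TensorProduct.lift_tmul (AlgHom.id k N) σ.toAlgHom (fun _ _ => Commute.all _ _) (show N from c) (1 : N)).trans (by rw [map_one, mul_one]; rfl)]
    exact IsPullback.id_horiz sK
  haveI : ∀ σ, IsOpenImmersion (g σ) := fun σ =>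
    MorphismProperty.of_isPullback (P := @IsOpenImmersion) (hg σ).flip (hjo σ)
  let U : (N ≃ₐ[k] N) → (pullback p p).Opens := fun σ => (g σ).opensRange
  have hU : ∀ σ, U σ = w ⁻¹ᵁ (j σ).opensRange := fun σ => by
    have h := IsOpenImmersion.image_preimage_eq_preimage_image_of_isPullback (hg σ).flip (⊤ : (Spec (CommRingCat.of N)).Opens)
    rw [Scheme.Hom.preimage_top, Scheme.Hom.image_top_eq_opensRange, Scheme.Hom.image_top_eq_opensRange] at h
    exact h
  obtain ⟨J, hJ, ⟨iJ⟩⟩ := An92.InvMod.exists_inverse hL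
  let A := CohB1.tensorMod ((Scheme.Modules.pullback (pullback.fst p p)).obj L) ((Scheme.Modules.pullback (pullback.snd p p)).obj J)
  have hframe : ∀ σ, ∃ s : Γ(A, U σ), IsFrame A (U σ) s := fun σ => by
    obtain ⟨t⟩ := hfix σ
    let χ : A.restrict (g σ) ≅ Coh.structureModule (pullback f a) :=
      (Scheme.Modules.restrictFunctorIsoPullback (g σ)).app A ≪≫ TwTens96.pullTensIso (g σ) _ _ ≪≫
        EGA73.tensIso ((Scheme.Modules.pullbackComp (g σ) (pullback.fst p p)).app L ≪≫
            (Scheme.Modules.pullbackCongr (pullback.lift_fst _ _ _)).app L ≪≫ (Scheme.Modules.pullbackId _).app L ≪≫ t.symm)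
          ((Scheme.Modules.pullbackComp (g σ) (pullback.snd p p)).app J ≪≫
            (Scheme.Modules.pullbackCongr (pullback.lift_snd _ _ _)).app J) ≪≫
        (TwTens96.pullTensIso (PicF2.twistAut f σ) L J).symm ≪≫
        (Scheme.Modules.pullback (PicF2.twistAut f σ)).mapIso (EGA73.tensComm _ _ ≪≫ iJ) ≪≫
        PicLoc.pullbackStructureIso _
    obtain ⟨s, hs⟩ := ParaF26.exists_frame_of_iso_unit χ
    have h2 := (Props58.PullTensor.isFrame_restrict_iff (g σ) A _ _).1 hs
    exact ⟨_, h2.res (g σ).image_top_eq_opensRange.ge⟩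
  choose s hs using hframe
  have hcovU : ∀ z, ∃ σ, z ∈ U σ := fun z => by
    obtain ⟨σ, hσ⟩ := hcov (w z)
    exact ⟨σ, by rw [hU]; exact hσ⟩
  obtain ⟨tA⟩ := Curves2.Glue.nonempty_iso_of_frames U hcovU s
    (fun σ => res (Coh.structureModule (pullback p p)) le_top (1 : Γ(pullback p p, ⊤))) hs
    (fun σ => ParaF26.isFrame_one.res le_top) fun σ σ' c hc => by
      rcases eq_or_ne σ σ' with rfl | hne
      · have hc1 : c = 1 := ((hs σ).res (inf_le_left : U σ ⊓ U σ ≤ U σ) _ le_rfl).1
          (by simpa [res_res] using hc)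
        rw [hc1, one_smul]
      · haveI : Subsingleton Γ(pullback p p, U σ ⊓ U σ') :=
          CommRingCat.subsingleton_of_isTerminal ((pullback p p).sheaf.isTerminalOfEqEmpty (by
            have hd : U σ ⊓ U σ' = ⊥ := by
              rw [hU, hU, ← Scheme.Hom.preimage_inf, (hdis σ σ' hne).eq_bot]
              rfl
            exact hd))
        haveI := Module.subsingleton Γ(pullback p p, U σ ⊓ U σ') Γ(Coh.structureModule (pullback p p), U σ ⊓ U σ')
        exact Subsingleton.elim _ _
  let eq12 : (Scheme.Modules.pullback (pullback.fst p p)).obj L ≅ (Scheme.Modules.pullback (pullback.snd p p)).obj L :=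
    (EGA73.tensUnitRight _).symm ≪≫ EGA73.tensIso (Iso.refl _)
      ((PicLoc.pullbackStructureIso (pullback.snd p p)).symm ≪≫
        (Scheme.Modules.pullback (pullback.snd p p)).mapIso iJ.symm ≪≫ TwTens96.pullTensIso _ J L) ≪≫
      (EGA73.tensAssoc' _ _ _).symm ≪≫ EGA73.tensIso tA (Iso.refl _) ≪≫ EGA73.tensUnitLeft _
  haveI : Flat a := Var76.FibBC.flat_of_field a
  haveI : Surjective a := ⟨fun y => ⟨IsLocalRing.closedPoint N, Subsingleton.elim (α := Spec (CommRingCat.of k)) _ y⟩⟩
  let σ' : Spec (CommRingCat.of N) ⟶ pullback f a := pullback.lift (a ≫ x) (𝟙 _)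
    (by rw [Category.assoc, hx, Category.comp_id, Category.id_comp])
  have hσ : σ' ≫ p = a ≫ x := pullback.lift_fst _ _ _
  obtain ⟨-, h₂, h₃⟩ := rig_of_pullback f x hx (fun h hg => bijective_appTop f hH0 h hg) hsq σ' hσ (pullback.lift_snd _ _ _)
  haveI : Flat p := MorphismProperty.of_isPullback (P := @Flat) hsq.flip ‹Flat a›
  haveI : Surjective p := MorphismProperty.of_isPullback (P := @Surjective) hsq.flip ‹Surjective a›
  haveI : IsAffineHom p := MorphismProperty.of_isPullback (P := @IsAffineHom) hsq.flip inferInstance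
  haveI := qcCover_of_affine p
  obtain ⟨M, hM, ⟨η⟩⟩ := exists_descend p a x σ' hσ h₂ h₃.1 L hL
    (nonempty_iso_unit_spec _ (Amp73.isInvertible_pullback σ' hL)) ⟨eq12⟩
  haveI := hM
  exact ⟨M, isInvertible_descend p M (EGA73.isInvertible_of_iso η.symm hL), ⟨η⟩⟩

end Field

end Groth.Agent.PicGal25
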