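import Groth.Agent.PicGal25.Basic
import Groth.Agent.PicLim95.Basic
import Groth.Agent.ASB64.GalStage

/-! Invariant classes on a base change along a possibly infinite Galois extension descend. -/

set_option autoImplicit false
set_option maxSynthPendingDepth 6
set_option backward.isDefEq.respectTransparency false
set_option backward.isDefEq.respectTransparency.types false
set_option backward.defeqAttrib.useBackward true
universe u

open CategoryTheory CategoryTheory.Limits AlgebraicGeometry TopologicalSpace Opposite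
open Lim8 Groth.Agent.LimTop61

noncomputable section

namespace Groth.Agent.PicGal25

variable {k : Type u} [Field k] {X : Scheme.{u}} (p : X ⟶ Spec (CommRingCat.of k))
  [CompactSpace X] [QuasiSeparatedSpace X]

/-- An invertible module on a base change is defined over a finitely generated subalgebra. -/
theorem exists_fg_stage (E : Type u) [Field E] [Algebra k E]
    (F : (pullback p (Spec.map (CommRingCat.ofHom (algebraMap k E)))).Modules) (hF : PicF.IsInvertible F) :
    ∃ S : Subalgebra k E, S.FG ∧ ∃ F₀ : (pullback p (Spec.map (CommRingCat.ofHom (algebraMap k S)))).Modules,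
      PicF.IsInvertible F₀ ∧ Nonempty ((Scheme.Modules.pullback (GeoConn24.toSub E p S)).obj F₀ ≅ F) := by
  classical
  let A := CommRingCat.of k
  let B := CommRingCat.of E
  haveI : QuasiCompact p := (quasiCompact_iff_compactSpace p).2 inferInstance
  haveI : QuasiSeparated p := (quasiSeparated_iff_quasiSeparatedSpace p).2 inferInstance
  have : IsDirectedOrder (FgSubalg A B) := ⟨fun S T => ⟨⟨S.1 ⊔ T.1, S.2.sup T.2⟩, le_sup_left (a := S.1), le_sup_right (a := S.1)⟩⟩
  have : Nonempty (FgSubalg A B) := ⟨⟨⊥, Subalgebra.fg_bot⟩⟩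
  have : IsFiltered (FgSubalg A B) := isFiltered_of_directed_le_nonempty _
  have : IsCofiltered (FgSubalg A B)ᵒᵖ := inferInstance
  let D := subalgSpec A B
  let cS := subalgCone A B
  let j₀ : (FgSubalg A B)ᵒᵖ := op ⟨⊥, Subalgebra.fg_bot⟩
  let g : D.obj j₀ ⟶ Spec A := Spec.map (CommRingCat.ofHom (algebraMap k (⊥ : Subalgebra k E)))
  have : IsIso g := by
    have hb : Function.Bijective (algebraMap k (⊥ : Subalgebra k E)) :=
      ⟨RingHom.injective _, fun z => by
        obtain ⟨r, hr⟩ := Algebra.mem_bot.mp z.2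
        exact ⟨r, Subtype.ext hr⟩⟩
    have : IsIso (CommRingCat.ofHom (algebraMap k (⊥ : Subalgebra k E))) :=
      (RingEquiv.ofBijective _ hb).toCommRingCatIso.isIso_hom
    exact inferInstanceAs (IsIso (Spec.map _))
  let a : X ⟶ D.obj j₀ := p ≫ inv g
  let sE := Spec.map (CommRingCat.ofHom (algebraMap k E))
  let sK (S : Subalgebra k E) := Spec.map (CommRingCat.ofHom (algebraMap k S))
  have hg (j : Over j₀) : D.map j.hom ≫ g = sK j.left.unop.1 := by
    simp only [D, g, sK, subalgSpec, Functor.comp_map, Functor.op_map, Scheme.Spec_map,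
      Quiver.Hom.unop_op]
    erw [← Spec.map_comp]
    rfl
  have hgE : cS.π.app j₀ ≫ g = sE := by
    simp only [cS, g, sE, subalgCone, Functor.mapCone_π_app]
    erw [← Spec.map_comp]
    rfl
  have hP : IsPullback (pullback.fst p sE) (pullback.snd p sE) a (cS.π.app j₀) :=
    (IsPullback.of_hasPullback p sE).of_iso (Iso.refl _) (Iso.refl _) (Iso.refl _) (asIso g).symm
      (by simp) (by simp) (by simp [a]) (by simp [← hgE])
  let c := bcCone D cS a (pullback.fst p sE) (pullback.snd p sE) hP.w
  let hc : IsLimit c := isLimitBcCone D cS (isLimitSubalgCone A B) a _ _ hP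
  haveI : ∀ j, CompactSpace ↥((bcDiagram D a).obj j) := fun j =>
    @QuasiCompact.compactSpace_of_compactSpace _ (D.obj j.left) (pullback.snd a (D.map j.hom)) inferInstance inferInstance
  haveI : ∀ j, QuasiSeparatedSpace ↥((bcDiagram D a).obj j) := fun j =>
    quasiSeparatedSpace_of_quasiSeparated (pullback.snd a (D.map j.hom))
  obtain ⟨j, Fj, hFj, ⟨i⟩⟩ := PicLim95.exists_invertible_stage (c := c) hc F hF
  have hiso : IsPullback (pullback.fst a (D.map j.hom)) (pullback.snd a (D.map j.hom)) p (sK j.left.unop.1) :=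
    (IsPullback.of_hasPullback a (D.map j.hom)).of_iso (Iso.refl _) (Iso.refl _) (Iso.refl _) (asIso g)
      (by simp) (by simp) (by simp [a]) (by simpa using (hg j))
  have e : c.π.app j ≫ hiso.isoPullback.hom = GeoConn24.toSub E p j.left.unop.1 := by
    refine pullback.hom_ext ?_ ?_
    · rw [Category.assoc, hiso.isoPullback_hom_fst]
      exact (pullback.lift_fst _ _ _).trans (pullback.lift_fst _ _ _).symm
    · rw [Category.assoc, hiso.isoPullback_hom_snd]
      refine (pullback.lift_snd _ _ _).trans ?_
      rw [GeoConn24.toSub, pullback.lift_snd]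
      rfl
  exact ⟨j.left.unop.1, j.left.unop.2, (Scheme.Modules.pullback hiso.isoPullback.inv).obj Fj,
    Amp73.isInvertible_pullback _ hFj,
    ⟨(LimTop61.pullbackCompIso hiso.isoPullback.inv (GeoConn24.toSub E p j.left.unop.1)
      (by rw [← e, Category.assoc, Iso.hom_inv_id, Category.comp_id])).app Fj ≪≫ i⟩⟩

/-- Galois invariant classes descend, for schemes with constant functions and a rational point. -/
theorem pic_descends (hH0 : IsIso p.appTop) (x : Spec (CommRingCat.of k) ⟶ X) (hx : x ≫ p = 𝟙 _)
    (K : Type u) [Field K] [Algebra k K] [IsGalois k K]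
    (L : (pullback p (Spec.map (CommRingCat.ofHom (algebraMap k K)))).Modules) (hL : PicF.IsInvertible L)
    (hfix : ∀ σ : K ≃ₐ[k] K, Nonempty ((Scheme.Modules.pullback (PicF2.twistAut p σ)).obj L ≅ L)) :
    ∃ M : X.Modules, PicF.IsInvertible M ∧
      Nonempty ((Scheme.Modules.pullback (pullback.fst p (Spec.map (CommRingCat.ofHom (algebraMap k K))))).obj M ≅ L) := by
  obtain ⟨S, ⟨s, hs⟩, F₁, hF₁, ⟨e₁⟩⟩ := exists_fg_stage p K L hL
  let N := (FiniteGaloisIntermediateField.adjoin k (s : Set K)).toIntermediateField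
  have hle : S ≤ N.toSubalgebra := by
    rw [← hs]
    exact Algebra.adjoin_le fun y hy => FiniteGaloisIntermediateField.subset_adjoin k _ hy
  let i : S →ₐ[k] N.toSubalgebra := Subalgebra.inclusion hle
  let aN := Spec.map (CommRingCat.ofHom (algebraMap k N))
  let aK := Spec.map (CommRingCat.ofHom (algebraMap k K))
  let u := Spec.map (CommRingCat.ofHom (algebraMap N K))
  have hu : u ≫ aN = aK := by
    rw [← Spec.map_comp]
    congr 1
  let m : pullback p aN ⟶ pullback p (Spec.map (CommRingCat.ofHom (algebraMap k S))) :=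
    pullback.map _ _ _ _ (𝟙 X) (Spec.map (CommRingCat.ofHom i.toRingHom)) (𝟙 _) (by simp)
      (by rw [Category.comp_id, ← Spec.map_comp, ← CommRingCat.ofHom_comp]; rfl)
  let q : pullback p aK ⟶ pullback p aN := ASB64.stageMap p N K
  have hq₁ : q ≫ pullback.fst p aN = pullback.fst p aK := (pullback.lift_fst _ _ _).trans (Category.comp_id _)
  have hq₂ : q ≫ pullback.snd p aN = pullback.snd p aK ≫ u := pullback.lift_snd _ _ _
  have hm : q ≫ m = GeoConn24.toSub K p S := by
    refine pullback.hom_ext ?_ ?_
    · rw [Category.assoc, show m ≫ pullback.fst _ _ = pullback.fst p aN from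
        (pullback.lift_fst _ _ _).trans (Category.comp_id _), hq₁]
      exact (pullback.lift_fst _ _ _).symm
    · rw [Category.assoc, show m ≫ pullback.snd _ _ = pullback.snd p aN ≫ Spec.map (CommRingCat.ofHom i.toRingHom) from
        pullback.lift_snd _ _ _, reassoc_of% hq₂]
      refine Eq.trans (congrArg (pullback.snd p aK ≫ ·) ?_) (pullback.lift_snd _ _ _).symm
      rw [← Spec.map_comp]
      rfl
  have hsq : IsPullback q (pullback.snd p aK) (pullback.snd p aN) u := by
    refine IsPullback.of_right ?_ hq₂ (IsPullback.of_hasPullback p aN)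
    rw [hq₁, hu]
    exact IsPullback.of_hasPullback p aK
  let F₀ := (Scheme.Modules.pullback m).obj F₁
  have hF₀ : PicF.IsInvertible F₀ := Amp73.isInvertible_pullback m hF₁
  let eq : (Scheme.Modules.pullback q).obj F₀ ≅ L := (LimTop61.pullbackCompIso m q hm).app F₁ ≪≫ e₁
  haveI : Flat u := Var76.FibBC.flat_of_field u
  haveI : Surjective u := ⟨fun y => ⟨IsLocalRing.closedPoint K, Subsingleton.elim (α := Spec (CommRingCat.of N)) _ y⟩⟩
  haveI : Flat q := MorphismProperty.of_isPullback (P := @Flat) hsq.flip ‹Flat u›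
  haveI : Surjective q := MorphismProperty.of_isPullback (P := @Surjective) hsq.flip ‹Surjective u›
  haveI : IsAffineHom q := MorphismProperty.of_isPullback (P := @IsAffineHom) hsq.flip inferInstance
  haveI := qcCover_of_affine q
  let xN : Spec (CommRingCat.of N) ⟶ pullback p aN := pullback.lift (aN ≫ x) (𝟙 _)
    (by rw [Category.assoc, hx, Category.comp_id, Category.id_comp])
  let xK : Spec (CommRingCat.of K) ⟶ pullback p aK := pullback.lift (aK ≫ x) (𝟙 _)
    (by rw [Category.assoc, hx, Category.comp_id, Category.id_comp])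
  have hxN : xN ≫ pullback.snd p aN = 𝟙 _ := pullback.lift_snd _ _ _
  have hσ : xK ≫ q = u ≫ xN := by
    refine pullback.hom_ext ?_ ?_
    · rw [Category.assoc, hq₁, Category.assoc, show xN ≫ pullback.fst p aN = aN ≫ x from pullback.lift_fst _ _ _,
        reassoc_of% hu]
      exact pullback.lift_fst _ _ _
    · rw [Category.assoc, hq₂, Category.assoc, hxN, Category.comp_id]
      exact pullback.lift_snd_assoc _ _ _ _ |>.trans (Category.id_comp _)
  obtain ⟨h₁, h₂, -⟩ := rig_of_pullback (pullback.snd p aN) xN hxN (fun {Z W a' q' g'} h hg' => by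
      haveI := hg'
      haveI : Flat aN := Var76.FibBC.flat_of_field aN
      exact bijective_appTop p hH0 (h.paste_horiz (IsPullback.of_hasPullback p aN)) inferInstance)
    hsq xK hσ (pullback.lift_snd _ _ _)
  have hfixN : ∀ σ : N ≃ₐ[k] N, Nonempty ((Scheme.Modules.pullback (PicF2.twistAut p σ)).obj F₀ ≅ F₀) := fun σ => by
    let σK : K ≃ₐ[k] K := σ.liftNormal K
    obtain ⟨t⟩ := hfix σK
    have hcomm : q ≫ PicF2.twistAut p σ = PicF2.twistAut p σK ≫ q := by
      refine pullback.hom_ext ?_ ?_
      · rw [Category.assoc, Category.assoc, hq₁,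
          show PicF2.twistAut p σ ≫ pullback.fst p aN = pullback.fst p aN from
            (pullback.lift_fst _ _ _).trans (Category.comp_id _), hq₁]
        exact ((pullback.lift_fst _ _ _).trans (Category.comp_id _)).symm
      · rw [Category.assoc, Category.assoc, hq₂,
          show PicF2.twistAut p σ ≫ pullback.snd p aN = pullback.snd p aN ≫ Spec.map (CommRingCat.ofHom (σ : N →+* N))
            from pullback.lift_snd _ _ _, reassoc_of% hq₂]
        rw [show PicF2.twistAut p σK ≫ pullback.snd p aK ≫ u = pullback.snd p aK ≫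
          Spec.map (CommRingCat.ofHom (σK : K →+* K)) ≫ u from pullback.lift_snd_assoc _ _ _ _, ← Spec.map_comp,
          ← Spec.map_comp]
        refine congrArg (pullback.snd p aK ≫ ·) (congrArg Spec.map ?_)
        ext c
        exact (σ.liftNormal_commutes K c).symm
    refine RigDesc25.nonempty_iso_descend q u xN xK hσ h₁ h₂.1 _ F₀ (Amp73.isInvertible_pullback _ hF₀) hF₀
      ⟨(nonempty_iso_unit_spec _ (Amp73.isInvertible_pullback xN (Amp73.isInvertible_pullback _ hF₀))).some ≪≫
        (nonempty_iso_unit_spec _ (Amp73.isInvertible_pullback xN hF₀)).some.symm⟩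
      ⟨(Scheme.Modules.pullbackComp q (PicF2.twistAut p σ)).app F₀ ≪≫
        (Scheme.Modules.pullbackCongr hcomm).app F₀ ≪≫
        ((Scheme.Modules.pullbackComp (PicF2.twistAut p σK) q).app F₀).symm ≪≫
        (Scheme.Modules.pullback (PicF2.twistAut p σK)).mapIso eq ≪≫ t ≪≫ eq.symm⟩
  obtain ⟨M, hM, ⟨η⟩⟩ := pic_descends_finite p hH0 x hx F₀ hF₀ hfixN
  exact ⟨M, hM, ⟨(Scheme.Modules.pullbackCongr hq₁.symm).app M ≪≫ ((Scheme.Modules.pullbackComp q _).app M).symm ≪≫
    (Scheme.Modules.pullback q).mapIso η ≪≫ eq⟩⟩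

end Groth.Agent.PicGal25
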